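import Cfsg.Agent.H141.Rg.Defs
import Cfsg.Agent.H262.Rg.Ratio

/-!
# S5714, X1: an elementary bound for character ratios (helper367)

`rat_of_lrg` : long root groups `X` (conjugates intersect trivially, connected by at most `c` steps, products of
nontrivial elements of two different ones are of level one) bound all character ratios of the simple group `T`.
-/

set_option autoImplicit false
set_option linter.unusedSectionVars false

namespace Cfsg.Agent.H367.Rg.Gluck

open Cfsg Cfsg.Agent.H141.Rg Module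
open Cfsg.Agent.Characters

universe u v

/-! ### conjugates of a subgroup -/

section Cj

variable {G : Type u} [Group G]

theorem mem_cj {X : Subgroup G} {g x : G} : x ∈ cj X g ↔ g⁻¹ * x * g ∈ X := by
  constructor
  · rintro ⟨y, hy, rfl⟩
    have : g⁻¹ * (g * y * g⁻¹) * g = y := by group
    show g⁻¹ * (g * y * g⁻¹) * g ∈ X
    rw [this]
    exact hy
  · intro h
    refine ⟨_, h, ?_⟩
    show g * (g⁻¹ * x * g) * g⁻¹ = x
    group

theorem cj_cj (X : Subgroup G) (g h : G) : cj (cj X g) h = cj X (h * g) := by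
  ext x
  rw [mem_cj, mem_cj, mem_cj, mul_inv_rev]
  have : g⁻¹ * (h⁻¹ * x * h) * g = g⁻¹ * h⁻¹ * x * (h * g) := by group
  rw [this]

theorem cj_one (X : Subgroup G) : cj X 1 = X := by
  ext x
  rw [mem_cj, inv_one, one_mul, mul_one]

theorem card_cj (X : Subgroup G) (g : G) : Nat.card ↥(cj X g) = Nat.card ↥X :=
  (Nat.card_congr (X.equivMapOfInjective _ (MulAut.conj g).injective).toEquiv).symm

end Cj

/-! ### fixed spaces -/

section Fix

variable {G : Type u} [Group G] {V : Type v} [AddCommGroup V] [Module ℂ V] (ρ : Representation ℂ G V)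

/-- the vectors fixed by `H` -/
def fx (H : Subgroup G) : Submodule ℂ V where
  carrier := {v | ∀ h ∈ H, ρ h v = v}
  add_mem' := by
    intro a b ha hb h hh
    rw [map_add, ha h hh, hb h hh]
  zero_mem' := fun h _ => map_zero _
  smul_mem' := by
    intro c a ha h hh
    rw [map_smul, ha h hh]

theorem mem_fx {H : Subgroup G} {v : V} : v ∈ fx ρ H ↔ ∀ h ∈ H, ρ h v = v := Iff.rfl

/-- the stabiliser of a vector -/
def stab (v : V) : Subgroup G where
  carrier := {g | ρ g v = v}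
  mul_mem' := by
    intro a b ha hb
    show ρ (a * b) v = v
    rw [map_mul, Module.End.mul_apply, hb, ha]
  one_mem' := by
    show ρ 1 v = v
    rw [map_one]
    rfl
  inv_mem' := by
    intro a ha
    show ρ a⁻¹ v = v
    have h : ρ a⁻¹ (ρ a v) = v := by
      rw [← Module.End.mul_apply, ← map_mul, inv_mul_cancel, map_one]
      rfl
    have ha' : ρ a v = v := ha
    rw [ha'] at h
    exact h

theorem mem_fx' {H : Subgroup G} {v : V} : v ∈ fx ρ H ↔ H ≤ stab ρ v := Iff.rfl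

theorem fx_anti {H K : Subgroup G} (h : H ≤ K) : fx ρ K ≤ fx ρ H := fun _ hv x hx => hv x (h hx)

theorem fx_sup (H K : Subgroup G) : fx ρ (H ⊔ K) = fx ρ H ⊓ fx ρ K := by
  ext v
  rw [Submodule.mem_inf, mem_fx', mem_fx', mem_fx', sup_le_iff]

theorem fx_bot : fx ρ ⊥ = ⊤ := by
  rw [eq_top_iff]
  intro v _ h hh
  rw [Subgroup.mem_bot.1 hh, map_one]
  rfl

variable [FiniteDimensional ℂ V]

theorem finrank_fx_cj_le (X : Subgroup G) (g : G) : finrank ℂ (fx ρ (cj X g)) ≤ finrank ℂ (fx ρ X) := by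
  have h1 : fx ρ (cj X g) ≤ (fx ρ X).map (ρ g) := by
    intro v hv
    refine ⟨ρ g⁻¹ v, ?_, ?_⟩
    · intro x hx
      have h2 := hv (g * x * g⁻¹) (mem_cj.2 (by simpa [mul_assoc] using hx))
      have h3 : ρ x (ρ g⁻¹ v) = ρ g⁻¹ (ρ (g * x * g⁻¹) v) := by
        rw [← Module.End.mul_apply, ← Module.End.mul_apply, ← map_mul, ← map_mul]
        congr 2
        group
      rw [h3, h2]
    · rw [← Module.End.mul_apply, ← map_mul, mul_inv_cancel, map_one]
      rfl
  exact (Submodule.finrank_mono h1).trans (Submodule.finrank_map_le _ _)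

theorem finrank_fx_cj (X : Subgroup G) (g : G) : finrank ℂ (fx ρ (cj X g)) = finrank ℂ (fx ρ X) := by
  refine le_antisymm (finrank_fx_cj_le ρ X g) ?_
  have h := finrank_fx_cj_le ρ (cj X g) g⁻¹
  rwa [cj_cj, inv_mul_cancel, cj_one] at h

theorem finrank_invariants {Q : Type*} [Group Q] [Fintype Q] (τ : Representation ℂ Q V) :
    (Fintype.card Q : ℂ)⁻¹ * ∑ g : Q, LinearMap.trace ℂ V (τ g) = (Module.finrank ℂ τ.invariants : ℂ) := by
  classical
  have hc : (Fintype.card Q : ℂ) ≠ 0 := by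
    have : 0 < Fintype.card Q := Fintype.card_pos
    exact_mod_cast this.ne'
  have hinv : Invertible (Fintype.card Q : ℂ) := invertibleOfNonzero hc
  rw [← (Representation.isProj_averageMap τ).trace]
  simp [Representation.averageMap, GroupAlgebra.average, map_sum]

theorem sum_char (H : Subgroup G) [Fintype H] :
    ∑ h : H, (ρ.character (h : G)) = (Nat.card H : ℂ) * finrank ℂ (fx ρ H) := by
  have h1 := finrank_invariants (ρ.comp H.subtype)
  have hc : (Fintype.card H : ℂ) ≠ 0 := by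
    have : 0 < Fintype.card H := Fintype.card_pos
    exact_mod_cast this.ne'
  rw [inv_mul_eq_iff_eq_mul₀ hc] at h1
  have h2 : Representation.invariants (ρ.comp H.subtype) = fx ρ H := by
    ext v
    rw [Representation.mem_invariants]
    exact ⟨fun h x hx => h ⟨x, hx⟩, fun h x => h x x.2⟩
  rw [h2] at h1
  rw [Nat.card_eq_fintype_card, ← h1]
  rfl

theorem sum_char_re (H : Subgroup G) [Fintype H] :
    ∑ h : H, (ρ.character (h : G)).re = (Nat.card H : ℝ) * finrank ℂ (fx ρ H) := by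
  have h := congrArg Complex.re (sum_char ρ H)
  rw [Complex.re_sum] at h
  rw [h]
  have : ((Nat.card H : ℂ) * (finrank ℂ (fx ρ H) : ℂ)) = (((Nat.card H : ℝ) * (finrank ℂ (fx ρ H) : ℝ) : ℝ) : ℂ) := by
    push_cast
    rfl
  rw [this, Complex.ofReal_re]

theorem char_one : (ρ.character 1).re = finrank ℂ V := by
  rw [Representation.char_one, Complex.natCast_re]

/-- the codimension decreases -/
theorem codim_step {W P : Submodule ℂ V} (h : W ≤ P) (R : Submodule ℂ V) :
    (finrank ℂ W : ℝ) - finrank ℂ ↥(W ⊓ R) ≤ (finrank ℂ P : ℝ) - finrank ℂ ↥(P ⊓ R) := by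
  have h1 := Submodule.finrank_sup_add_finrank_inf_eq W R
  have h2 := Submodule.finrank_sup_add_finrank_inf_eq P R
  have h3 : finrank ℂ ↥(W ⊔ R) ≤ finrank ℂ ↥(P ⊔ R) := Submodule.finrank_mono (sup_le_sup_right h R)
  have h1' : (finrank ℂ ↥(W ⊔ R) : ℝ) + finrank ℂ ↥(W ⊓ R) = finrank ℂ W + finrank ℂ R := by exact_mod_cast h1
  have h2' : (finrank ℂ ↥(P ⊔ R) : ℝ) + finrank ℂ ↥(P ⊓ R) = finrank ℂ P + finrank ℂ R := by exact_mod_cast h2
  have h3' : (finrank ℂ ↥(W ⊔ R) : ℝ) ≤ finrank ℂ ↥(P ⊔ R) := by exact_mod_cast h3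
  linarith

/-- chains -/
theorem codim_chain {δ : ℝ} {p : ℕ → Subgroup G} {l : ℕ}
    (h : ∀ i < l, (finrank ℂ (fx ρ (p i)) : ℝ) - finrank ℂ ↥(fx ρ (p i) ⊓ fx ρ (p (i + 1))) ≤ δ) :
    (finrank ℂ (fx ρ (p 0)) : ℝ) - finrank ℂ ↥(fx ρ (p 0) ⊓ fx ρ (p l)) ≤ l * δ := by
  have key : ∀ i ≤ l, ∃ W : Submodule ℂ V, W ≤ fx ρ (p 0) ∧ W ≤ fx ρ (p i) ∧
      (finrank ℂ (fx ρ (p 0)) : ℝ) - finrank ℂ W ≤ i * δ := by
    intro i
    induction i with
    | zero => intro _; exact ⟨_, le_rfl, le_rfl, by simp⟩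
    | succ i ih =>
      intro hi
      obtain ⟨W, h1, h2, h3⟩ := ih (by omega)
      refine ⟨W ⊓ fx ρ (p (i + 1)), inf_le_left.trans h1, inf_le_right, ?_⟩
      have h4 := codim_step h2 (fx ρ (p (i + 1)))
      have h5 := h i (by omega)
      push_cast
      linarith
  obtain ⟨W, h1, h2, h3⟩ := key l le_rfl
  have h4 : (finrank ℂ W : ℝ) ≤ finrank ℂ ↥(fx ρ (p 0) ⊓ fx ρ (p l)) := by
    exact_mod_cast Submodule.finrank_mono (le_inf h1 h2)
  linarith

/-- **Adjacent long root groups.** -/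
theorem adj_bound [Finite G] {X A B : Subgroup G} (h : Adj X A B) :
    (finrank ℂ (fx ρ A) : ℝ) - finrank ℂ ↥(fx ρ A ⊓ fx ρ B) ≤ finrank ℂ V / Nat.card X := by
  classical
  have : Fintype G := Fintype.ofFinite G
  obtain ⟨S, Q, hA, hB, hconj, hcard, hdisj, hle, hQ⟩ := h
  set q := Nat.card X with hq
  have hq0 : 0 < q := Nat.card_pos
  set χ : G → ℝ := fun g => (ρ.character g).re with hχ
  have hfin : ∀ H : Subgroup G, ∑ g ∈ Finset.univ.filter (· ∈ H), χ g = (Nat.card H : ℝ) * finrank ℂ (fx ρ H) := by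
    intro H
    rw [← sum_char_re ρ H]
    exact Finset.sum_subtype _ (fun x => by simp) _
  have hcF : ∀ H : Subgroup G, (Finset.univ.filter (· ∈ H)).card = Nat.card H := by
    intro H
    rw [Nat.card_eq_fintype_card, Fintype.card_subtype]
  have hone : ∀ H : Subgroup G, (1 : G) ∈ Finset.univ.filter (· ∈ H) := fun H => by simp [H.one_mem]
  have hCq : ∀ C ∈ S, Nat.card C = q := by
    intro C hC
    obtain ⟨g, rfl⟩ := hconj C hC
    exact card_cj X g
  have hCf : ∀ C ∈ S, finrank ℂ (fx ρ C) = finrank ℂ (fx ρ X) := by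
    intro C hC
    obtain ⟨g, rfl⟩ := hconj C hC
    exact finrank_fx_cj ρ X g
  have hpd : (S : Set (Subgroup G)).PairwiseDisjoint fun C => (Finset.univ.filter (· ∈ C)).erase (1 : G) := by
    intro C hC D hD hne
    rw [Function.onFun, Finset.disjoint_left]
    intro x hx hx'
    rw [Finset.mem_erase, Finset.mem_filter] at hx hx'
    have h1 : x ∈ C ⊓ D := ⟨hx.2.2, hx'.2.2⟩
    rw [hdisj C hC D hD hne, Subgroup.mem_bot] at h1
    exact hx.1 h1
  have hunion : S.biUnion (fun C => (Finset.univ.filter (· ∈ C)).erase (1 : G)) =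
      (Finset.univ.filter (· ∈ Q)).erase (1 : G) := by
    apply Finset.eq_of_subset_of_card_le
    · intro x hx
      rw [Finset.mem_biUnion] at hx
      obtain ⟨C, hC, hx⟩ := hx
      rw [Finset.mem_erase, Finset.mem_filter] at hx ⊢
      exact ⟨hx.1, hx.2.1, hle C hC hx.2.2⟩
    · rw [Finset.card_biUnion hpd, Finset.card_erase_of_mem (hone Q), hcF, hQ]
      have h1 : ∑ C ∈ S, ((Finset.univ.filter (· ∈ C)).erase (1 : G)).card = (q + 1) * (q - 1) := by
        rw [← hcard, ← smul_eq_mul, ← Finset.sum_const]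
        refine Finset.sum_congr rfl fun C hC => ?_
        rw [Finset.card_erase_of_mem (hone C), hcF, hCq C hC]
      rw [h1]
      obtain ⟨m, hm⟩ : ∃ m, q = m + 1 := ⟨q - 1, by omega⟩
      rw [hm, Nat.add_sub_cancel]
      have : (m + 1) ^ 2 = (m + 1 + 1) * m + 1 := by ring
      omega
  have hsum : (q : ℝ) ^ 2 * finrank ℂ (fx ρ Q) = (q + 1) * (q * finrank ℂ (fx ρ X)) - q * finrank ℂ V := by
    have e1 : ∑ g ∈ (Finset.univ.filter (· ∈ Q)).erase (1 : G), χ g = (q : ℝ) ^ 2 * finrank ℂ (fx ρ Q) - finrank ℂ V := by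
      rw [Finset.sum_erase_eq_sub (hone Q), hfin Q, hQ]
      push_cast
      rw [hχ]
      simp only
      rw [char_one]
    rw [← hunion, Finset.sum_biUnion hpd] at e1
    have e2 : ∑ C ∈ S, ∑ g ∈ (Finset.univ.filter (· ∈ C)).erase (1 : G), χ g =
        (q + 1) * (q * finrank ℂ (fx ρ X) - finrank ℂ V) := by
      have e3 : ∀ C ∈ S, ∑ g ∈ (Finset.univ.filter (· ∈ C)).erase (1 : G), χ g =
          q * finrank ℂ (fx ρ X) - finrank ℂ V := by
        intro C hC
        rw [Finset.sum_erase_eq_sub (hone C), hfin C, hCq C hC, hCf C hC, hχ]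
        simp only
        rw [char_one]
      rw [Finset.sum_congr rfl e3, Finset.sum_const, hcard, nsmul_eq_mul]
      push_cast
      ring
    rw [e2] at e1
    linarith
  have hqr : (0 : ℝ) < q := by exact_mod_cast hq0
  have hQle : (finrank ℂ (fx ρ Q) : ℝ) ≤ finrank ℂ ↥(fx ρ A ⊓ fx ρ B) := by
    exact_mod_cast Submodule.finrank_mono (le_inf (fx_anti ρ (hle A hA)) (fx_anti ρ (hle B hB)))
  rw [hCf A hA, le_div_iff₀ hqr]
  have h2 : (q : ℝ) * finrank ℂ (fx ρ Q) = (q + 1) * finrank ℂ (fx ρ X) - finrank ℂ V := by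
    have := mul_left_cancel₀ hqr.ne' (a := (q : ℝ)) (b := q * finrank ℂ (fx ρ Q))
      (c := (q + 1) * finrank ℂ (fx ρ X) - finrank ℂ V) (by linarith)
    exact this
  have h0 : (0 : ℝ) ≤ finrank ℂ (fx ρ X) := Nat.cast_nonneg _
  nlinarith

theorem codim_conn [Finite G] {X : Subgroup G} {c : ℕ} (h : LRG X c) (g : G) :
    (finrank ℂ (fx ρ X) : ℝ) - finrank ℂ ↥(fx ρ X ⊓ fx ρ (cj X g)) ≤ c * (finrank ℂ V / Nat.card X) := by
  obtain ⟨l, p, hl, h0, hl', hadj⟩ := h.conn g
  have h1 := codim_chain ρ (p := p) (l := l) (fun i hi => adj_bound ρ (hadj i hi))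
  rw [h0, hl'] at h1
  refine h1.trans ?_
  gcongr

theorem exists_cj_not_le [IsSimpleGroup G] {X : Subgroup G} (hX : X ≠ ⊥) {H : Subgroup G} (hH : H ≠ ⊤) :
    ∃ g, ¬ cj X g ≤ H := by
  by_contra hcon
  push Not at hcon
  have h1 : Subgroup.normalClosure (X : Set G) ≤ H := by
    rw [Subgroup.normalClosure, Subgroup.closure_le]
    intro y hy
    rw [Group.mem_conjugatesOfSet_iff] at hy
    obtain ⟨a, ha, hay⟩ := hy
    obtain ⟨c, rfl⟩ := isConj_iff.1 hay
    exact hcon c ⟨a, ha, rfl⟩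
  rcases Subgroup.Normal.eq_bot_or_eq_top (Subgroup.normalClosure_normal (s := (X : Set G))) with h2 | h2
  · apply hX
    rw [eq_bot_iff, ← h2]
    exact Subgroup.subset_normalClosure
  · rw [h2] at h1
    exact hH (top_le_iff.1 h1)

theorem two_card_le [Finite G] {H K : Subgroup G} (h : H < K) : 2 * Nat.card H ≤ Nat.card K := by
  obtain ⟨m, hm⟩ := Subgroup.card_dvd_of_le h.le
  have h1 : 0 < Nat.card H := Nat.card_pos
  have h2 : 0 < Nat.card K := Nat.card_pos
  have h3 : m ≠ 0 := by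
    rintro rfl
    omega
  have h4 : m ≠ 1 := by
    rintro rfl
    rw [mul_one] at hm
    exact h.ne (Subgroup.eq_of_le_of_card_ge h.le hm.le)
  rw [hm, mul_comm]
  exact Nat.mul_le_mul_left _ (by omega)

/-- **The greedy argument.** -/
theorem finrank_fx_le [Finite G] [IsSimpleGroup G] {X : Subgroup G} {c : ℕ} (hX : 2 ≤ Nat.card X) (h : LRG X c)
    (htop : fx ρ ⊤ = ⊥) :
    (finrank ℂ (fx ρ X) : ℝ) ≤ Real.logb 2 (Nat.card G) * (c * (finrank ℂ V / Nat.card X)) := by
  have hXb : X ≠ ⊥ := by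
    rintro rfl
    rw [Subgroup.card_bot] at hX
    omega
  set d : ℝ := c * (finrank ℂ V / Nat.card X) with hd
  have hd0 : 0 ≤ d := by positivity
  set P : Set (Subgroup G) := {H | (finrank ℂ (fx ρ X) : ℝ) - finrank ℂ ↥(fx ρ X ⊓ fx ρ H) ≤
    Real.logb 2 (Nat.card H) * d} with hP
  have hbot : (⊥ : Subgroup G) ∈ P := by
    show (finrank ℂ (fx ρ X) : ℝ) - finrank ℂ ↥(fx ρ X ⊓ fx ρ ⊥) ≤ Real.logb 2 (Nat.card (⊥ : Subgroup G)) * d
    rw [fx_bot, inf_top_eq, Subgroup.card_bot]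
    simp
  obtain ⟨H, hH⟩ := (Set.toFinite P).exists_maximal ⟨⊥, hbot⟩
  have hHt : H = ⊤ := by
    by_contra hne
    obtain ⟨g, hg⟩ := exists_cj_not_le hXb hne
    have hlt : H < H ⊔ cj X g := lt_of_le_of_ne le_sup_left fun he => hg (he ▸ le_sup_right)
    have hmem : H ⊔ cj X g ∈ P := by
      show (finrank ℂ (fx ρ X) : ℝ) - finrank ℂ ↥(fx ρ X ⊓ fx ρ (H ⊔ cj X g)) ≤
        Real.logb 2 (Nat.card ↥(H ⊔ cj X g)) * d
      rw [fx_sup, ← inf_assoc]
      have h1 := codim_step (inf_le_left : fx ρ X ⊓ fx ρ H ≤ fx ρ X) (fx ρ (cj X g))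
      have h2 := codim_conn ρ h g
      have h3 : (finrank ℂ (fx ρ X) : ℝ) - finrank ℂ ↥(fx ρ X ⊓ fx ρ H) ≤ Real.logb 2 (Nat.card H) * d := hH.prop
      have h4 : Real.logb 2 (Nat.card H) + 1 ≤ Real.logb 2 (Nat.card ↥(H ⊔ cj X g)) := by
        have h5 : (2 : ℝ) * Nat.card H ≤ Nat.card ↥(H ⊔ cj X g) := by exact_mod_cast two_card_le hlt
        have h6 : (0 : ℝ) < Nat.card H := by exact_mod_cast Nat.card_pos
        have h7 : Real.logb 2 (2 * Nat.card H) = 1 + Real.logb 2 (Nat.card H) := by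
          rw [Real.logb_mul two_ne_zero h6.ne', Real.logb_self_eq_one one_lt_two]
        rw [add_comm, ← h7]
        exact Real.logb_le_logb_of_le one_lt_two (by positivity) h5
      nlinarith
    exact hlt.not_ge (hH.le_of_ge hmem hlt.le)
  have h1 : (finrank ℂ (fx ρ X) : ℝ) - finrank ℂ ↥(fx ρ X ⊓ fx ρ H) ≤ Real.logb 2 (Nat.card H) * d := hH.prop
  rw [hHt, htop, inf_bot_eq, finrank_bot, Subgroup.card_top] at h1
  simpa using h1

end Fix

/-! ### the bound -/

section Main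

variable {T : Type u} [Group T] [Finite T] [IsSimpleGroup T]

omit [IsSimpleGroup T] in
theorem fx_top_eq_bot {n : ℕ} {ρ : Representation ℂ T (Fin n → ℂ)} (hρ : ρ.IsIrreducible)
    (hne : ∃ g, ρ.character g ≠ 1) : fx ρ ⊤ = ⊥ := by
  classical
  have : Fintype T := Fintype.ofFinite T
  have hχ : IsIrrCharacter T ρ.character := ⟨n, ρ, hρ, rfl⟩
  have h1 := sum_char ρ (⊤ : Subgroup T)
  have h2 := Core.classInner_irr_ne hχ Core.isIrr_one (by
    rintro he
    obtain ⟨g, hg⟩ := hne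
    exact hg (congrFun he g))
  rw [Core.classInner_def, mul_eq_zero, or_iff_right (inv_ne_zero Core.card_ne_zero_complex)] at h2
  have h3 : ∑ h : (⊤ : Subgroup T), ρ.character (h : T) = 0 := by
    rw [← h2]
    refine Fintype.sum_equiv Subgroup.topEquiv.toEquiv _ _ fun x => ?_
    simp
  rw [h3, eq_comm, mul_eq_zero, or_iff_right Core.card_ne_zero_complex, Nat.cast_eq_zero,
    Submodule.finrank_eq_zero] at h1
  exact h1

/-- elements of level one -/
theorem norm_le_of_lev {X : Subgroup T} {c : ℕ} (hX : 2 ≤ Nat.card X) (h : LRG X c) {χ : T → ℂ}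
    (hχ : IsIrrCharacter T χ) (hne : ∃ g, χ g ≠ 1) {y : T} (hy : Lev X y) :
    ‖χ y‖ ≤ √(c * Real.logb 2 (Nat.card T) / (Nat.card X : ℝ)) * ‖χ 1‖ := by
  classical
  have : Fintype T := Fintype.ofFinite T
  obtain ⟨Y, k, hbij⟩ := hy
  obtain ⟨n, ρ, hρ, rfl⟩ := hχ
  refine Cfsg.Agent.H262.Rg.Ratio.norm_le_of_comm ⟨n, ρ, hρ, rfl⟩ Y y ?_
  have hX0 : (0 : ℝ) < Nat.card X := by exact_mod_cast Nat.card_pos
  have e : Y ≃ cj X k := hbij.equiv _
  have hcard : (Fintype.card Y : ℝ) = Nat.card X := by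
    rw [← Nat.card_eq_fintype_card, Nat.card_congr e, card_cj]
  have h1 : ∑ w : Y, (ρ.character (y * w * y⁻¹ * (w : T)⁻¹)).re = ∑ w : cj X k, (ρ.character (w : T)).re :=
    Fintype.sum_equiv (hbij.equiv _) _ _ fun x => rfl
  rw [h1, sum_char_re, card_cj, finrank_fx_cj, hcard, Representation.char_one, Complex.norm_natCast]
  have h2 := finrank_fx_le ρ hX h (fx_top_eq_bot hρ hne)
  have h3 := mul_le_mul_of_nonneg_left h2 hX0.le
  refine h3.trans (le_of_eq ?_)
  field_simp

/-- a conjugate of `X` not normalized by `z` -/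
theorem exists_cj_ne {X : Subgroup T} (hX : 2 ≤ Nat.card X) (hXt : X ≠ ⊤) {z : T} (hz : z ≠ 1) :
    ∃ h, cj X (z * h) ≠ cj X h := by
  by_contra hcon
  push Not at hcon
  let N : Subgroup T :=
    { carrier := {z | ∀ h, cj X (z * h) = cj X h}
      mul_mem' := by
        intro a b ha hb h
        rw [mul_assoc, ha, hb]
      one_mem' := by
        intro h
        rw [one_mul]
      inv_mem' := by
        intro a ha h
        have := ha (a⁻¹ * h)
        rw [mul_inv_cancel_left] at this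
        exact this.symm }
  have hN : N.Normal := by
    refine ⟨fun n hn g h => ?_⟩
    have h1 : cj X (g * n * g⁻¹ * h) = cj (cj X (n * (g⁻¹ * h))) g := by
      rw [cj_cj]
      congr 1
      group
    rw [h1, hn, cj_cj, mul_inv_cancel_left]
  have hzN : z ∈ N := hcon
  rcases hN.eq_bot_or_eq_top with h1 | h1
  · rw [h1, Subgroup.mem_bot] at hzN
    exact hz hzN
  · have hXn : X.Normal := by
      refine ⟨fun n hn g => ?_⟩
      have hg : g ∈ N := h1 ▸ Subgroup.mem_top g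
      have h2 : cj X (g * 1) = cj X 1 := hg 1
      rw [mul_one, cj_one] at h2
      rw [← h2]
      exact ⟨n, hn, rfl⟩
    rcases hXn.eq_bot_or_eq_top with h2 | h2
    · rw [h2, Subgroup.card_bot] at hX
      omega
    · exact hXt h2

set_option linter.unusedVariables false in
/-- **X1** : long root groups bound all character ratios. -/
theorem rat_of_lrg {T : Type u} [Group T] [Finite T] [IsSimpleGroup T] (hna : ∃ a b : T, a * b ≠ b * a)
    {X : Subgroup T} (hX : 2 ≤ Nat.card X) (hXt : X ≠ ⊤) {c : ℕ} (h : LRG X c) {z : T} (hz : z ≠ 1) :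
    Rat (Real.sqrt (1 / (Nat.card X : ℝ) + Real.sqrt (c * Real.logb 2 (Nat.card T) / (Nat.card X : ℝ)))) z := by
  classical
  have : Fintype T := Fintype.ofFinite T
  intro χ hχ hne
  have hre : ‖χ 1‖ = (χ 1).re := by
    obtain ⟨m, _, hm⟩ := Core.isIrr_apply_one hχ
    rw [hm, Complex.norm_natCast, Complex.natCast_re]
  rw [← hre]
  obtain ⟨k, hk⟩ := exists_cj_ne hX hXt hz
  have hX0 : (0 : ℝ) < Nat.card X := by exact_mod_cast Nat.card_pos
  have hcard : (Fintype.card (cj X k) : ℝ) = Nat.card X := by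
    rw [← Nat.card_eq_fintype_card, card_cj]
  refine Cfsg.Agent.H262.Rg.Ratio.norm_le_of_comm hχ (cj X k) z ?_
  set γ : ℝ := √(c * Real.logb 2 (Nat.card T) / (Nat.card X : ℝ)) with hγ
  have hγ0 : 0 ≤ γ := Real.sqrt_nonneg _
  have hcj : cj X (k⁻¹ * z * k) ≠ X := by
    intro he
    apply hk
    have h1 := congrArg (fun Y => cj Y k) he
    simp only [cj_cj] at h1
    rw [← h1]
    congr 1
    group
  have hw : ∀ w : cj X k, (χ (z * w * z⁻¹ * (w : T)⁻¹)).re ≤ (if w = 1 then ‖χ 1‖ else 0) + γ * ‖χ 1‖ := by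
    intro w
    by_cases hw1 : w = 1
    · rw [if_pos hw1, hw1]
      have h1 : z * ((1 : cj X k) : T) * z⁻¹ * ((1 : cj X k) : T)⁻¹ = 1 := by simp
      rw [h1, ← hre]
      have := mul_nonneg hγ0 (norm_nonneg (χ 1))
      linarith
    · rw [if_neg hw1, zero_add]
      refine (Complex.re_le_norm _).trans ?_
      have hx := mem_cj.1 w.2
      set x : T := k⁻¹ * w * k with hxdef
      have hx1 : x ≠ 1 := by
        intro he
        apply hw1
        have h2 : (w : T) = k * x * k⁻¹ := by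
          rw [hxdef]
          group
        apply Subtype.ext
        rw [h2, he]
        simp
      have e1 : χ (z * w * z⁻¹ * (w : T)⁻¹) = χ (x⁻¹ * ((k⁻¹ * z * k) * x * (k⁻¹ * z * k)⁻¹)) := by
        have h2 := Core.isIrr_isClassFunction hχ (z * w * z⁻¹ * (w : T)⁻¹) k⁻¹
        rw [← h2, Cfsg.Agent.H262.Rg.Ratio.irr_comm hχ x⁻¹]
        congr 1
        rw [hxdef]
        group
      rw [e1]
      refine norm_le_of_lev hX h hχ hne (h.lev (k⁻¹ * z * k) hcj x⁻¹ (X.inv_mem hx) (inv_ne_one.2 hx1) _ ⟨x, hx, rfl⟩ ?_)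
      intro he
      apply hx1
      exact (map_eq_one_iff _ (MulAut.conj (k⁻¹ * z * k)).injective).1 he
  refine (Finset.sum_le_sum fun w _ => hw w).trans (le_of_eq ?_)
  rw [Finset.sum_add_distrib, Finset.sum_ite_eq' Finset.univ (1 : cj X k), if_pos (Finset.mem_univ _), Finset.sum_const,
    Finset.card_univ, nsmul_eq_mul, hcard]
  field_simp

end Main

end Cfsg.Agent.H367.Rg.Gluck
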